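import Mathlib
import Groth.Agent.S2145

/-! Spreading out morphisms from local rings, finitely presented target. -/

set_option autoImplicit false
universe u

open CategoryTheory AlgebraicGeometry TopologicalSpace

namespace SpreadFPLib

variable {S X Y : Scheme.{u}} (sX : X ⟶ S) (sY : Y ⟶ S)

theorem spread_out [LocallyOfFinitePresentation sY] {x : X} (φ : Spec (X.presheaf.stalk x) ⟶ Y)
    (h : φ ≫ sY = X.fromSpecStalk x ≫ sX) :
    ∃ (W : X.Opens) (hxW : x ∈ W) (f : W.toScheme ⟶ Y),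
      φ = W.fromSpecStalkOfMem x hxW ≫ f ∧ f ≫ sY = W.ι ≫ sX := by
  set c := IsLocalRing.closedPoint (X.presheaf.stalk x)
  have hc : sY (φ c) = sX x := by
    rw [← Scheme.Hom.comp_apply, h, Scheme.Hom.comp_apply, Scheme.fromSpecStalk_closedPoint]
  obtain ⟨U, hU, hxU, -⟩ := exists_isAffineOpen_mem_and_subset (X := S) (x := sX x) (U := ⊤) trivial
  obtain ⟨V, hV, hyV, hVU⟩ := exists_isAffineOpen_mem_and_subset (X := Y) (x := φ c) (U := sY ⁻¹ᵁ U) (show sY (φ c) ∈ U by rw [hc]; exact hxU)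
  obtain ⟨W₀, hW₀, hxW₀, hW₀U⟩ := exists_isAffineOpen_mem_and_subset (X := X) (x := x) (U := sX ⁻¹ᵁ U) hxU
  replace hVU : V ≤ sY ⁻¹ᵁ U := hVU
  replace hW₀U : W₀ ≤ sX ⁻¹ᵁ U := hW₀U
  let φst : Γ(Y, V) ⟶ X.presheaf.stalk x := Y.presheaf.germ V (φ c) hyV ≫ Scheme.stalkClosedPointTo φ
  have hcomm : sY.appLE U V hVU ≫ φst = sX.appLE U W₀ hW₀U ≫ X.presheaf.germ W₀ x hxW₀ := by
    apply Spec.map_injective
    rw [← cancel_mono hU.fromSpec]
    simp only [Spec.map_comp, Category.assoc]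
    rw [hU.SpecMap_appLE_fromSpec sY hV hVU, hU.SpecMap_appLE_fromSpec sX hW₀ hW₀U]
    have a1 : Spec.map (Y.presheaf.germ V (φ c) hyV) ≫ hV.fromSpec = Y.fromSpecStalk (φ c) :=
      hV.fromSpecStalk_eq_fromSpecStalk hyV
    have a2 : Spec.map (X.presheaf.germ W₀ x hxW₀) ≫ hW₀.fromSpec = X.fromSpecStalk x :=
      hW₀.fromSpecStalk_eq_fromSpecStalk hxW₀
    have b1 : Spec.map (Scheme.stalkClosedPointTo φ) ≫ Spec.map (Y.presheaf.germ V (φ c) hyV) ≫ hV.fromSpec = φ :=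
      (congrArg (Spec.map (Scheme.stalkClosedPointTo φ) ≫ ·) a1).trans (Scheme.Spec_stalkClosedPointTo_fromSpecStalk φ)
    rw [reassoc_of% a2, ← h]
    simpa only [φst, Spec.map_comp, Category.assoc] using congrArg (· ≫ sY) b1
  let P := (hW₀.primeIdealOf ⟨x, hxW₀⟩).asIdeal
  letI := TopCat.Presheaf.algebra_section_stalk X.presheaf (U := W₀) ⟨x, hxW₀⟩
  haveI : IsLocalization.AtPrime (X.presheaf.stalk x) P := hW₀.isLocalization_stalk ⟨x, hxW₀⟩
  letI : Algebra Γ(S, U) Γ(Y, V) := (sY.appLE U V hVU).hom.toAlgebra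
  letI : Algebra Γ(S, U) Γ(X, W₀) := (sX.appLE U W₀ hW₀U).hom.toAlgebra
  haveI : Algebra.FinitePresentation Γ(S, U) Γ(Y, V) :=
    HasRingHomProperty.appLE (P := @LocallyOfFinitePresentation) sY inferInstance ⟨U, hU⟩ ⟨V, hV⟩ hVU
  let e : X.presheaf.stalk x ≃ₐ[Γ(X, W₀)] Localization.AtPrime P := IsLocalization.algEquiv P.primeCompl _ _
  let φA : Γ(Y, V) →ₐ[Γ(S, U)] Localization.AtPrime P :=
    { toRingHom := (e : X.presheaf.stalk x →+* Localization.AtPrime P).comp φst.hom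
      commutes' := fun r => by
        show e (φst.hom (sY.appLE U V hVU r)) = _
        rw [show φst.hom (sY.appLE U V hVU r) = algebraMap Γ(X, W₀) (X.presheaf.stalk x) (sX.appLE U W₀ hW₀U r) from
          congrArg (fun k => k.hom r) hcomm, e.commutes]
        rfl }
  obtain ⟨g, hg, ψ, hψ⟩ := Groth.Agent.S2145.exists_spread P φA
  obtain ⟨ι, hι⟩ := Groth.Agent.S2145.exists_lift (Groth.Agent.S2145.toP (R := Γ(S, U)) P)
    (Groth.Agent.S2145.toP_unit P hg)
  have hψ' := hψ ι hι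
  let W := X.basicOpen g
  have hW : IsAffineOpen W := hW₀.basicOpen g
  have hxW : x ∈ W := by
    have h9 : hW₀.fromSpec (hW₀.primeIdealOf ⟨x, hxW₀⟩) ∈ X.basicOpen g := by
      show hW₀.primeIdealOf ⟨x, hxW₀⟩ ∈ hW₀.fromSpec ⁻¹ᵁ X.basicOpen g
      rw [hW₀.fromSpec_preimage_basicOpen]
      exact hg
    rwa [hW₀.fromSpec_primeIdealOf] at h9
  haveI := hW₀.isLocalization_basicOpen g
  let e2 : Localization.Away g ≃ₐ[Γ(X, W₀)] Γ(X, W) := IsLocalization.algEquiv (Submonoid.powers g) _ _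
  let φ' : Γ(Y, V) ⟶ Γ(X, W) := CommRingCat.ofHom ((e2 : Localization.Away g →+* Γ(X, W)).comp ψ.toRingHom)
  have h₁ : φst = φ' ≫ X.presheaf.germ W x hxW := by
    ext a
    apply e.injective
    show φA a = e (X.presheaf.germ W x hxW (e2 (ψ a)))
    rw [← hψ']
    have key : (ι : Localization.Away g →+* Localization.AtPrime P) =
        (e : X.presheaf.stalk x →+* Localization.AtPrime P).comp ((X.presheaf.germ W x hxW).hom.comp (e2 : Localization.Away g →+* Γ(X, W))) := by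
      apply IsLocalization.ringHom_ext (Submonoid.powers g)
      ext b
      show ι (algebraMap Γ(X, W₀) (Localization.Away g) b) = e (X.presheaf.germ W x hxW (e2 (algebraMap Γ(X, W₀) _ b)))
      rw [e2.commutes]
      refine (hι b).trans ?_
      show algebraMap Γ(X, W₀) (Localization.AtPrime P) b = _
      rw [← e.commutes]
      congr 1
      exact (X.presheaf.germ_res_apply (homOfLE (X.basicOpen_le g)) x hxW b).symm
    exact RingHom.congr_fun key (ψ a)
  have h₂ : sY.appLE U V hVU ≫ φ' = sX.appLE U W ((X.basicOpen_le g).trans hW₀U) := by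
    rw [← Scheme.Hom.appLE_map sX hW₀U (homOfLE (X.basicOpen_le g)).op]
    ext r
    show e2 (ψ (algebraMap Γ(S, U) Γ(Y, V) r)) = algebraMap Γ(X, W₀) Γ(X, W) (sX.appLE U W₀ hW₀U r)
    rw [AlgHom.commutes]
    show e2 (algebraMap Γ(X, W₀) (Localization.Away g) (sX.appLE U W₀ hW₀U r)) = _
    rw [e2.commutes]
  refine ⟨W, hxW, W.toSpecΓ ≫ Spec.map φ' ≫ hV.fromSpec, ?_, ?_⟩
  · rw [W.fromSpecStalkOfMem_toSpecΓ_assoc x hxW, ← Spec.map_comp_assoc, ← h₁]
    show φ = Spec.map (Y.presheaf.germ V (φ c) hyV ≫ Scheme.stalkClosedPointTo φ) ≫ hV.fromSpec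
    rw [Spec.map_comp, Category.assoc, ← IsAffineOpen.fromSpecStalk,
      IsAffineOpen.fromSpecStalk_eq_fromSpecStalk, Scheme.Spec_stalkClosedPointTo_fromSpecStalk]
  · simp only [Category.assoc]
    rw [← hU.SpecMap_appLE_fromSpec sY hV hVU, ← Spec.map_comp_assoc, h₂,
      ← hW.isoSpec_hom, hU.SpecMap_appLE_fromSpec sX hW,
      ← Iso.eq_inv_comp, IsAffineOpen.isoSpec_inv_ι_assoc]

end SpreadFPLib
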